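import Groth.Prelude.Def_Found
import Mathlib.Order.Cover
import Mathlib.Order.RelSeries
import Mathlib.RingTheory.Spectrum.Prime.Topology

/-! Order-theoretic helper lemmas for `CAlg.IsCatenary`. -/

set_option autoImplicit false

namespace Groth.Agent.Lib.Helper24

universe u v

/-- Order-theoretic version of catenarity. -/
def CatOrd (P : Type u) [PartialOrder P] : Prop :=
  (∀ p q : P, p ≤ q → ∃ n : ℕ, ∀ s : LTSeries P, s.head = p → s.last = q → s.length ≤ n) ∧
  ∀ s t : LTSeries P, s.head = t.head → s.last = t.last →
    (∀ i : Fin s.length, s (Fin.castSucc i) ⋖ s (Fin.succ i)) →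
    (∀ i : Fin t.length, t (Fin.castSucc i) ⋖ t (Fin.succ i)) →
    s.length = t.length

theorem isCatenary_iff_catOrd (R : Type u) [CommRing R] :
    CAlg.IsCatenary R ↔ CatOrd (PrimeSpectrum R) := Iff.rfl

/-- Catenarity is inherited by order-connected sub-posets. -/
theorem CatOrd.of_orderEmbedding {P : Type u} {Q : Type v} [PartialOrder P] [PartialOrder Q]
    (e : P ↪o Q) (h : (Set.range e).OrdConnected) (hQ : CatOrd Q) : CatOrd P := by
  refine ⟨fun p q hpq => ?_, fun s t hhead hlast hs ht => ?_⟩
  · obtain ⟨n, hn⟩ := hQ.1 (e p) (e q) (e.monotone hpq)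
    refine ⟨n, fun s hsp hsq => ?_⟩
    have := hn (s.map e e.strictMono) (by rw [LTSeries.head_map, hsp])
      (by rw [LTSeries.last_map, hsq])
    simpa using this
  · have := hQ.2 (s.map e e.strictMono) (t.map e e.strictMono)
      (by rw [LTSeries.head_map, LTSeries.head_map, hhead])
      (by rw [LTSeries.last_map, LTSeries.last_map, hlast])
      (fun i => (h.apply_covBy_apply_iff e).mpr (hs i))
      (fun i => (h.apply_covBy_apply_iff e).mpr (ht i))
    simpa using this

/-- Lift a series lying in the range of an order embedding. -/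
theorem exists_lift_ltSeries {P : Type u} {Q : Type v} [PartialOrder P] [PartialOrder Q]
    (e : P ↪o Q) (s : LTSeries Q) (hs : ∀ i, s i ∈ Set.range e) :
    ∃ s' : LTSeries P, s'.length = s.length ∧ s'.map e e.strictMono = s := by
  choose f hf using hs
  have hmono : StrictMono f := by
    intro i j hij
    rw [← e.lt_iff_lt, hf, hf]
    exact s.strictMono hij
  refine ⟨LTSeries.mk s.length f hmono, rfl, ?_⟩
  ext i
  · rfl
  · exact hf i

/-- Local-to-global principle for catenarity. -/
theorem CatOrd.of_cover {Q : Type u} [PartialOrder Q]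
    (H : ∀ p q : Q, p ≤ q → ∃ (P : Type u) (_ : PartialOrder P) (e : P ↪o Q),
      (Set.range e).OrdConnected ∧ CatOrd P ∧ p ∈ Set.range e ∧ q ∈ Set.range e) : CatOrd Q := by
  have key : ∀ (P : Type u) (_ : PartialOrder P) (e : P ↪o Q), (Set.range e).OrdConnected →
      ∀ p q : Q, p ∈ Set.range e → q ∈ Set.range e → ∀ s : LTSeries Q, s.head = p → s.last = q →
      ∃ s' : LTSeries P, s'.length = s.length ∧ s'.map e e.strictMono = s := by
    intro P _ e hoc p q hp hq s hsp hsq
    apply exists_lift_ltSeries
    intro i
    exact hoc.out hp hq ⟨hsp ▸ s.head_le i, hsq ▸ s.monotone (Fin.le_last i)⟩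
  refine ⟨fun p q hpq => ?_, fun s t hhead hlast hs ht => ?_⟩
  · obtain ⟨P, _, e, hoc, hP, ⟨p', rfl⟩, ⟨q', rfl⟩⟩ := H p q hpq
    obtain ⟨n, hn⟩ := hP.1 p' q' (e.le_iff_le.mp hpq)
    refine ⟨n, fun s hsp hsq => ?_⟩
    obtain ⟨s', hlen, hs'⟩ := key P _ e hoc _ _ ⟨p', rfl⟩ ⟨q', rfl⟩ s hsp hsq
    rw [← hlen]
    apply hn
    · apply e.injective
      rw [← LTSeries.head_map s' e e.strictMono, hs', hsp]
    · apply e.injective
      rw [← LTSeries.last_map s' e e.strictMono, hs', hsq]
  · obtain ⟨P, _, e, hoc, hP, hp, hq⟩ := H s.head s.last s.head_le_last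
    obtain ⟨s', hlen, hs'⟩ := key P _ e hoc _ _ hp hq s rfl rfl
    obtain ⟨t', hlen', ht'⟩ := key P _ e hoc _ _ hp hq t hhead.symm hlast.symm
    rw [← hlen, ← hlen']
    apply hP.2
    · apply e.injective
      rw [← LTSeries.head_map s' e e.strictMono, ← LTSeries.head_map t' e e.strictMono, hs', ht',
        hhead]
    · apply e.injective
      rw [← LTSeries.last_map s' e e.strictMono, ← LTSeries.last_map t' e e.strictMono, hs', ht',
        hlast]
    · intro i
      rw [← hoc.apply_covBy_apply_iff e]
      have := hs (Fin.cast hlen i)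
      subst hs'
      exact this
    · intro i
      rw [← hoc.apply_covBy_apply_iff e]
      have := ht (Fin.cast hlen' i)
      subst ht'
      exact this

section Spec

open PrimeSpectrum

/-- An embedding of prime spectra as an order embedding. -/
noncomputable def specOrderEmbedding {A B : Type u} [CommRing A] [CommRing B] (f : A →+* B)
    (hf : Topology.IsEmbedding (PrimeSpectrum.comap f)) : PrimeSpectrum B ↪o PrimeSpectrum A :=
  OrderEmbedding.ofMapLEIff (PrimeSpectrum.comap f) (fun a b => by
    rw [PrimeSpectrum.le_iff_specializes, PrimeSpectrum.le_iff_specializes,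
      hf.isInducing.specializes_iff])

@[simp] theorem specOrderEmbedding_apply {A B : Type u} [CommRing A] [CommRing B] (f : A →+* B)
    (hf : Topology.IsEmbedding (PrimeSpectrum.comap f)) (x : PrimeSpectrum B) :
    specOrderEmbedding f hf x = PrimeSpectrum.comap f x := rfl

theorem range_specOrderEmbedding {A B : Type u} [CommRing A] [CommRing B] (f : A →+* B)
    (hf : Topology.IsEmbedding (PrimeSpectrum.comap f)) :
    Set.range (specOrderEmbedding f hf) = Set.range (PrimeSpectrum.comap f) := rfl

/-- The order embedding `Spec S⁻¹A → Spec A`. -/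
noncomputable def locOrderEmbedding {A : Type u} [CommRing A] (S : Submonoid A) (B : Type u)
    [CommRing B] [Algebra A B] [IsLocalization S B] : PrimeSpectrum B ↪o PrimeSpectrum A :=
  specOrderEmbedding (algebraMap A B) (PrimeSpectrum.localization_comap_isEmbedding B S)

theorem range_locOrderEmbedding {A : Type u} [CommRing A] (S : Submonoid A) (B : Type u)
    [CommRing B] [Algebra A B] [IsLocalization S B] :
    Set.range (locOrderEmbedding S B) = { p | Disjoint (S : Set A) p.asIdeal } :=
  PrimeSpectrum.localization_comap_range B S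

theorem ordConnected_range_locOrderEmbedding {A : Type u} [CommRing A] (S : Submonoid A)
    (B : Type u) [CommRing B] [Algebra A B] [IsLocalization S B] :
    (Set.range (locOrderEmbedding S B)).OrdConnected := by
  rw [range_locOrderEmbedding]
  apply IsLowerSet.ordConnected
  intro p q hqp hp
  exact Set.disjoint_of_subset_right (show (q.asIdeal : Set A) ⊆ p.asIdeal from hqp) hp

/-- The order embedding `Spec A/I → Spec A`. -/
noncomputable def quotOrderEmbedding {A : Type u} [CommRing A] (I : Ideal A) :
    PrimeSpectrum (A ⧸ I) ↪o PrimeSpectrum A :=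
  specOrderEmbedding (Ideal.Quotient.mk I)
    (PrimeSpectrum.isClosedEmbedding_comap_of_surjective _ _
      Ideal.Quotient.mk_surjective).isEmbedding

theorem range_quotOrderEmbedding {A : Type u} [CommRing A] (I : Ideal A) :
    Set.range (quotOrderEmbedding I) = PrimeSpectrum.zeroLocus (I : Set A) := by
  have := range_comap_of_surjective _ _
    (Ideal.Quotient.mk_surjective (I := I))
  rw [Ideal.mk_ker] at this
  exact this

theorem ordConnected_range_quotOrderEmbedding {A : Type u} [CommRing A] (I : Ideal A) :
    (Set.range (quotOrderEmbedding I)).OrdConnected := by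
  rw [range_quotOrderEmbedding]
  apply IsUpperSet.ordConnected
  intro p q hpq hp
  rw [PrimeSpectrum.mem_zeroLocus] at hp ⊢
  exact hp.trans (show (p.asIdeal : Set A) ⊆ q.asIdeal from hpq)

end Spec

end Groth.Agent.Lib.Helper24
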