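import Groth.Prelude.Def_FlatCA

set_option autoImplicit false

namespace Groth.Agent.Lib.Helper24

universe u

variable {R : Type u} [CommRing R] (S : Submonoid R) {M : Type u} [AddCommGroup M] [Module R M]

/-- `r` kills `m/s` iff some `t ∈ S` kills `r • m`. -/
theorem smul_mk_eq_zero_iff (r : R) (m : M) (s : S) :
    r • LocalizedModule.mk m s = 0 ↔ ∃ t : S, t • (r • m) = 0 := by
  rw [LocalizedModule.smul'_mk, ← LocalizedModule.zero_mk (1 : S), LocalizedModule.mk_eq]
  constructor
  · rintro ⟨t, ht⟩
    refine ⟨t, ?_⟩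
    simpa using ht
  · rintro ⟨t, ht⟩
    refine ⟨t, ?_⟩
    simpa using ht

theorem mem_ann_mk_iff (r : R) (m : M) (s : S) :
    r ∈ (Submodule.span R {LocalizedModule.mk m s}).annihilator ↔ ∃ t : S, t • (r • m) = 0 := by
  rw [Submodule.mem_annihilator_span_singleton, smul_mk_eq_zero_iff]

/-- If all elements of `S` are nonzerodivisors on `M`, annihilators do not change. -/
theorem ann_mk_eq_of_regular (hS : ∀ s ∈ S, IsSMulRegular M s) (m : M) (s : S) :
    (Submodule.span R {LocalizedModule.mk m s}).annihilator =
      (Submodule.span R {m}).annihilator := by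
  ext r
  rw [mem_ann_mk_iff, Submodule.mem_annihilator_span_singleton]
  constructor
  · rintro ⟨t, ht⟩
    apply hS t t.2
    change (t : R) • r • m = (t : R) • (0 : M)
    rw [smul_zero]
    exact ht
  · intro h
    exact ⟨1, by rw [h, smul_zero]⟩

/-- If `p = Ann(m)` is a prime disjoint from `S` then `Ann(m/1) = p`. -/
theorem ann_mk_eq_of_prime_disjoint (m : M) (p : Ideal R) [p.IsPrime]
    (hp : p = (Submodule.span R {m}).annihilator) (hd : Disjoint (S : Set R) (p : Set R)) :
    (Submodule.span R {LocalizedModule.mk m (1 : S)}).annihilator = p := by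
  ext r
  rw [mem_ann_mk_iff]
  constructor
  · rintro ⟨t, ht⟩
    have h1 : (t : R) * r ∈ p := by
      rw [hp, Submodule.mem_annihilator_span_singleton, mul_smul]
      exact ht
    rcases Ideal.IsPrime.mem_or_mem ‹p.IsPrime› h1 with h | h
    · exact absurd h (Set.disjoint_left.mp hd t.2)
    · exact h
  · intro h
    refine ⟨1, ?_⟩
    rw [hp, Submodule.mem_annihilator_span_singleton] at h
    rw [h, smul_zero]

end Groth.Agent.Lib.Helper24
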