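import Groth.Prelude.Def_FlatCA
import Groth.Agent.Lib.Helper24.AssLoc
import Mathlib.RingTheory.Ideal.MinimalPrime.Localization

/-! Helper lemmas on weakly associated primes (`FlatCA.weakAss`). -/

set_option autoImplicit false

namespace Groth.Agent.Lib.Helper24

universe u

section General

variable {R : Type u} [CommRing R] {M : Type u} [AddCommGroup M] [Module R M]

theorem mem_weakAss_iff (p : Ideal R) :
    p ∈ FlatCA.weakAss R M ↔ ∃ m : M, p ∈ (Submodule.span R {m}).annihilator.minimalPrimes :=
  Iff.rfl

theorem ann_ne_top_iff (m : M) : (Submodule.span R {m}).annihilator ≠ ⊤ ↔ m ≠ 0 := by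
  rw [Ne, Ideal.eq_top_iff_one, Submodule.mem_annihilator_span_singleton, one_smul]

/-- If `p` is minimal over `I` and `a ∈ p`, there are `t ∉ p` and `n` with `t * a ^ n ∈ I`. -/
theorem exists_mul_pow_mem_of_mem_minimalPrimes {I p : Ideal R} (hp : p ∈ I.minimalPrimes)
    {a : R} (ha : a ∈ p) : ∃ t ∉ p, ∃ n : ℕ, t * a ^ n ∈ I := by
  classical
  have hpp : p.IsPrime := hp.1.1
  by_contra hcon
  push Not at hcon
  -- the multiplicative set `{t * a ^ n}`
  let T : Submonoid R := p.primeCompl ⊔ Submonoid.powers a
  have hT : ∀ x ∈ T, ∃ t ∉ p, ∃ n : ℕ, x = t * a ^ n := by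
    intro x hx
    rw [Submonoid.mem_sup] at hx
    obtain ⟨t, ht, y, ⟨n, rfl⟩, rfl⟩ := hx
    exact ⟨t, ht, n, rfl⟩
  have hdisj : Disjoint (I : Set R) (T : Set R) := by
    rw [Set.disjoint_left]
    intro x hxI hxT
    obtain ⟨t, ht, n, rfl⟩ := hT x hxT
    exact hcon t ht n hxI
  obtain ⟨q, hq, hIq, hqT⟩ := Ideal.exists_le_prime_disjoint I T hdisj
  have hqp : q ≤ p := by
    intro x hx
    by_contra hxp
    exact Set.disjoint_left.mp hqT hx (Submonoid.mem_sup_left (show x ∈ p.primeCompl from hxp))
  have hpq : p ≤ q := hp.2 ⟨hq, hIq⟩ hqp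
  exact Set.disjoint_left.mp hqT (hpq ha) (Submonoid.mem_sup_right (Submonoid.mem_powers a))

end General

section Loc

variable {R : Type u} [CommRing R] (S : Submonoid R) {M : Type u} [AddCommGroup M] [Module R M]

/-- The `R`-annihilator of an element of `S⁻¹M` is the contraction of its `S⁻¹R`-annihilator. -/
theorem comap_ann_localizedModule (x : LocalizedModule S M) :
    Ideal.comap (algebraMap R (Localization S))
      (Submodule.span (Localization S) {x}).annihilator = (Submodule.span R {x}).annihilator := by
  ext r
  rw [Ideal.mem_comap, Submodule.mem_annihilator_span_singleton,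
    Submodule.mem_annihilator_span_singleton, algebraMap_smul]

/-- The `S⁻¹R`-annihilator of `m/s` is the extension of the annihilator of `m`. -/
theorem ann_loc_mk_eq_map (m : M) (s : S) :
    (Submodule.span (Localization S) {LocalizedModule.mk m s}).annihilator =
      Ideal.map (algebraMap R (Localization S)) (Submodule.span R {m}).annihilator := by
  apply le_antisymm
  · intro x hx
    rw [Submodule.mem_annihilator_span_singleton] at hx
    obtain ⟨r, t, rfl⟩ := IsLocalization.exists_mk'_eq S x
    rw [← Localization.mk_eq_mk', LocalizedModule.mk_smul_mk,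
      ← LocalizedModule.zero_mk (1 : S), LocalizedModule.mk_eq] at hx
    obtain ⟨c, hc⟩ := hx
    replace hc : c • r • m = 0 := by simpa using hc
    have h1 : (c : R) * r ∈ (Submodule.span R {m}).annihilator := by
      rw [Submodule.mem_annihilator_span_singleton, mul_smul]
      exact hc
    have h2 : IsLocalization.mk' (Localization S) r t =
        IsLocalization.mk' (Localization S) ((c : R) * r) (c * t) := by
      rw [IsLocalization.mk'_eq_iff_eq]
      simp only [Submonoid.coe_mul]
      congr 1
      ring
    rw [h2, IsLocalization.mk'_mem_map_algebraMap_iff]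
    exact ⟨1, S.one_mem, by simpa using h1⟩
  · rw [Ideal.map_le_iff_le_comap]
    intro r hr
    rw [Submodule.mem_annihilator_span_singleton] at hr
    rw [Ideal.mem_comap, Submodule.mem_annihilator_span_singleton, algebraMap_smul,
      LocalizedModule.smul'_mk, hr, LocalizedModule.zero_mk]

end Loc

end Groth.Agent.Lib.Helper24
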