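import Groth.Prelude.Def_GrSyz

/-! Helper lemmas on `GrSyz` (standard ℤ-grading of polynomial rings, irrelevant ideal, minimal
free resolutions). -/

set_option autoImplicit false

namespace Groth.Agent.Lib.Helper24.GrSyzL

universe u v

open GrSyz MvPolynomial

variable (k : Type u) [Field k] (σ : Type v)

/-- Positive degree homogeneous polynomials have zero constant coefficient. -/
theorem constantCoeff_eq_zero_of_mem_stdGr {n : ℤ} (hn : n ≠ 0) {p : MvPolynomial σ k}
    (hp : p ∈ stdGr k σ n) : constantCoeff p = 0 := by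
  by_contra h
  have := hp (d := 0) (by simpa [constantCoeff_eq] using h)
  rw [map_zero] at this
  exact hn this.symm

theorem irrel_le_ker_constantCoeff :
    (irrel (stdGr k σ)).toIdeal ≤ RingHom.ker (constantCoeff : MvPolynomial σ k →+* k) := by
  change Ideal.span _ ≤ _
  rw [Ideal.span_le]
  rintro p ⟨n, hn, hp⟩
  rw [SetLike.mem_coe, RingHom.mem_ker]
  exact constantCoeff_eq_zero_of_mem_stdGr k σ hn.ne' hp

theorem one_notMem_irrel : (1 : MvPolynomial σ k) ∉ (irrel (stdGr k σ)).toIdeal := by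
  intro h
  have := irrel_le_ker_constantCoeff k σ h
  rw [RingHom.mem_ker, map_one] at this
  exact one_ne_zero this

theorem weight_one_nonneg (d : σ →₀ ℕ) : 0 ≤ Finsupp.weight (fun _ : σ => (1 : ℤ)) d := by
  rw [Finsupp.weight_apply]
  apply Finset.sum_nonneg
  intro i _
  exact nsmul_nonneg zero_le_one _

theorem weight_one_eq_zero_iff (d : σ →₀ ℕ) :
    Finsupp.weight (fun _ : σ => (1 : ℤ)) d = 0 ↔ d = 0 := by
  constructor
  · intro h
    rw [Finsupp.weight_apply, Finsupp.sum] at h
    rw [Finset.sum_eq_zero_iff_of_nonneg (fun i _ => nsmul_nonneg zero_le_one _)] at h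
    ext i
    by_cases hi : i ∈ d.support
    · have := h i hi
      simpa using this
    · simpa using hi
  · rintro rfl
    simp

/-- A nonzero homogeneous element of the irrelevant ideal has positive degree. -/
theorem pos_of_mem_stdGr_of_mem_irrel {n : ℤ} {p : MvPolynomial σ k} (hp : p ∈ stdGr k σ n)
    (hpm : p ∈ (irrel (stdGr k σ)).toIdeal) (hp0 : p ≠ 0) : 0 < n := by
  obtain ⟨d, hd⟩ := MvPolynomial.ne_zero_iff.mp hp0
  have hw := hp hd
  have hnn : 0 ≤ n := hw ▸ weight_one_nonneg σ d
  rcases hnn.lt_or_eq with h | h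
  · exact h
  · exfalso
    rw [← h] at hw
    rw [weight_one_eq_zero_iff] at hw
    subst hw
    have := irrel_le_ker_constantCoeff k σ hpm
    rw [RingHom.mem_ker, constantCoeff_eq] at this
    exact hd this

/-- A homogeneous element outside the irrelevant ideal is a unit (a nonzero constant). -/
theorem isUnit_of_mem_stdGr_of_notMem_irrel {n : ℤ} {p : MvPolynomial σ k} (hp : p ∈ stdGr k σ n)
    (hpm : p ∉ (irrel (stdGr k σ)).toIdeal) : IsUnit p := by
  have hp0 : p ≠ 0 := by
    rintro rfl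
    exact hpm (Ideal.zero_mem _)
  obtain ⟨d, hd⟩ := MvPolynomial.ne_zero_iff.mp hp0
  have hw := hp hd
  have hnn : 0 ≤ n := hw ▸ weight_one_nonneg σ d
  rcases hnn.lt_or_eq with h | h
  · exact absurd (Ideal.subset_span (show p ∈ {r | ∃ n : ℤ, 0 < n ∧ r ∈ stdGr k σ n} from
      ⟨n, h, hp⟩)) hpm
  · subst h
    classical
    have hpC : p = C (coeff 0 p) := by
      ext e
      rw [coeff_C]
      by_cases he : e = 0
      · subst he; simp
      · rw [if_neg (Ne.symm he)]
        by_contra hne
        exact he ((weight_one_eq_zero_iff σ e).mp (hp hne))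
    rw [hpC]
    apply IsUnit.map
    rw [isUnit_iff_ne_zero]
    intro h0
    rw [h0, map_zero] at hpC
    exact hp0 hpC

section Span

variable {S : Type u} [CommRing S] {N : Type v} [AddCommGroup N] [Module S N] {n : ℕ}

theorem redundant_of_unit_coeff (g : Fin n → N) (w : Fin n → S) (a : Fin n) (hu : IsUnit (w a))
    (hw : ∑ a', w a' • g a' = 0) : g a ∈ Submodule.span S (g '' {a' | a' ≠ a}) := by
  classical
  obtain ⟨u, hu⟩ := hu
  rw [← Finset.add_sum_erase _ _ (Finset.mem_univ a)] at hw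
  have h1 : g a = (↑u⁻¹ : S) • (-∑ x ∈ Finset.univ.erase a, w x • g x) := by
    rw [← hu, add_comm, ← eq_neg_iff_add_eq_zero] at hw
    have h2 : (↑u⁻¹ : S) • ((u : S) • g a) = g a := by rw [smul_smul]; simp
    rw [← h2, hw, neg_neg]
  rw [h1]
  apply Submodule.smul_mem
  apply Submodule.neg_mem
  apply Submodule.sum_mem
  intro x hx
  apply Submodule.smul_mem
  apply Submodule.subset_span
  exact ⟨x, (Finset.mem_erase.mp hx).1, rfl⟩

theorem exists_ker_of_redundant (g : Fin n → N) (b : Fin n)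
    (h : g b ∈ Submodule.span S (g '' {b' | b' ≠ b})) :
    ∃ w : Fin n → S, w b = 1 ∧ ∑ b', w b' • g b' = 0 := by
  classical
  rw [Finsupp.mem_span_image_iff_linearCombination] at h
  obtain ⟨l, hl, hlb⟩ := h
  have hlb0 : l b = 0 := by
    rw [← Finsupp.notMem_support_iff]
    intro hb
    exact (hl hb) rfl
  refine ⟨fun b' => (Pi.single b 1 : Fin n → S) b' - l b', by simp [hlb0], ?_⟩
  simp_rw [sub_smul, Finset.sum_sub_distrib]
  rw [Finsupp.linearCombination_apply, Finsupp.sum_fintype l (fun i a => a • g i)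
    (fun i => zero_smul _ _)] at hlb
  rw [hlb, Finset.sum_eq_single b]
  · simp
  · intro b' _ hb'
    rw [Pi.single_eq_of_ne hb', zero_smul]
  · intro hb
    exact absurd (Finset.mem_univ b) hb

end Span

section Res

variable {R : Type u} [CommRing R] {σ' : Type u} [SetLike σ' R]
  {𝒜 : ℤ → σ'}
  {M : Type u} [AddCommGroup M] [Module R M] {τ : Type u} [SetLike τ M] [AddSubgroupClass τ M]
  {ℳ : ℤ → τ} [DirectSum.Decomposition ℳ] [SetLike.GradedSMul 𝒜 ℳ]

/-- In a minimal resolution no column of a differential vanishes. -/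
theorem exists_entry_ne_zero (F : FreeRes 𝒜 ℳ) (𝔪 : Ideal R) (hF : F.IsMinimal 𝔪)
    (h1 : (1 : R) ∉ 𝔪) (i : ℕ) (b : Fin (F.rk (i + 1))) : ∃ a, F.d i a b ≠ 0 := by
  classical
  by_contra hcon
  push Not at hcon
  have hker : (Pi.single b 1 : Fin (F.rk (i + 1)) → R) ∈ LinearMap.ker (Matrix.mulVecLin (F.d i)) := by
    rw [LinearMap.mem_ker, Matrix.mulVecLin_apply, Matrix.mulVec_single_one]
    ext a
    simp [hcon a]
  rw [F.exact_succ i] at hker
  obtain ⟨v, hv⟩ := hker
  rw [Matrix.mulVecLin_apply] at hv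
  have hb := congrFun hv b
  rw [Pi.single_eq_same, Matrix.mulVec, dotProduct] at hb
  apply h1
  rw [← hb]
  exact Ideal.sum_mem _ fun c _ => Ideal.mul_mem_right _ _ (hF (i + 1) b c)

end Res

end Groth.Agent.Lib.Helper24.GrSyzL
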