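import Groth.Prelude.Def_Conn
import Mathlib.LinearAlgebra.Trace
import Mathlib.LinearAlgebra.TensorProduct.Basis

set_option autoImplicit false
universe v u
open TensorProduct

namespace Groth.Agent.Lib.Helper24.ConnL

theorem rid_ev {B Ω M M' : Type u} [CommRing B]
    [AddCommGroup Ω] [Module B Ω] [AddCommGroup M] [Module B M] [AddCommGroup M'] [Module B M']
    (θ : Ω →ₗ[B] B) (z : (M →ₗ[B] M') ⊗[B] Ω) (m : M) :
    (TensorProduct.rid B (M →ₗ[B] M') (TensorProduct.map LinearMap.id θ z)) m =
      TensorProduct.rid B M' (TensorProduct.map LinearMap.id θ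
        (TensorProduct.map (LinearMap.applyₗ m) LinearMap.id z)) := by
  induction z using TensorProduct.induction_on with
  | zero => simp
  | tmul ψ ω => simp
  | add y₁ y₂ h₁ h₂ => simp only [map_add, LinearMap.add_apply, h₁, h₂]

theorem rid_map {B Ω M M' : Type u} [CommRing B]
    [AddCommGroup Ω] [Module B Ω] [AddCommGroup M] [Module B M] [AddCommGroup M'] [Module B M']
    (θ : Ω →ₗ[B] B) (φ : M →ₗ[B] M') (x : M ⊗[B] Ω) :
    TensorProduct.rid B M' (TensorProduct.map LinearMap.id θ (TensorProduct.map φ LinearMap.id x)) =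
      φ (TensorProduct.rid B M (TensorProduct.map LinearMap.id θ x)) := by
  induction x using TensorProduct.induction_on with
  | zero => simp
  | tmul ψ ω => simp
  | add y₁ y₂ h₁ h₂ => simp only [map_add, h₁, h₂]

/-- Elements of `X ⊗ Ω`, `Ω` free, are detected by contraction with functionals on `Ω`. -/
theorem eq_of_contract_eq {B Ω X : Type u} [CommRing B]
    [AddCommGroup Ω] [Module B Ω] [Module.Free B Ω] [AddCommGroup X] [Module B X]
    (z w : X ⊗[B] Ω)
    (h : ∀ θ : Ω →ₗ[B] B, TensorProduct.rid B X (TensorProduct.map LinearMap.id θ z) =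
      TensorProduct.rid B X (TensorProduct.map LinearMap.id θ w)) : z = w := by
  classical
  let 𝒞 := Module.Free.chooseBasis B Ω
  apply (TensorProduct.equivFinsuppOfBasisRight 𝒞).injective
  ext i
  rw [TensorProduct.equivFinsuppOfBasisRight_apply, TensorProduct.equivFinsuppOfBasisRight_apply]
  exact h (𝒞.coord i)

/-- Elements of `Hom(M,M') ⊗ Ω`, `Ω` free, are detected by evaluation at elements of `M`. -/
theorem eq_of_ev_eq {B Ω M M' : Type u} [CommRing B]
    [AddCommGroup Ω] [Module B Ω] [Module.Free B Ω]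
    [AddCommGroup M] [Module B M] [AddCommGroup M'] [Module B M']
    (z w : (M →ₗ[B] M') ⊗[B] Ω)
    (h : ∀ m : M, TensorProduct.map (LinearMap.applyₗ m) LinearMap.id z =
      TensorProduct.map (LinearMap.applyₗ m) LinearMap.id w) : z = w := by
  apply eq_of_contract_eq
  intro θ
  ext m
  rw [rid_ev, rid_ev, h m]

/-- The covariant derivative of the Hom connection is the commutator with the covariant
derivatives. -/
theorem along_hom_apply {A : Type v} {B Ω M M' : Type u} [CommRing A] [CommRing B] [Algebra A B]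
    [AddCommGroup Ω] [Module B Ω] [Module A Ω] [IsScalarTower A B Ω]
    [AddCommGroup M] [Module B M] [Module A M] [IsScalarTower A B M]
    [AddCommGroup M'] [Module B M'] [Module A M'] [IsScalarTower A B M']
    {nabla : M →ₗ[A] M ⊗[B] Ω} {nabla' : M' →ₗ[A] M' ⊗[B] Ω}
    {nabla'' : (M →ₗ[B] M') →ₗ[A] (M →ₗ[B] M') ⊗[B] Ω} (h : Conn.IsHomConn nabla nabla' nabla'')
    (θ : Ω →ₗ[B] B) (φ : M →ₗ[B] M') (m : M) :
    (Conn.along nabla'' θ φ) m = Conn.along nabla' θ (φ m) - φ (Conn.along nabla θ m) := by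
  rw [Conn.along_apply, rid_ev, h φ m, map_sub, map_sub, rid_map]
  rfl

/-- Leibniz rule for the covariant derivative along a functional. -/
theorem along_smul {A : Type v} {B Ω M : Type u} [CommRing A] [CommRing B] [Algebra A B]
    [AddCommGroup Ω] [Module B Ω] [Module A Ω] [IsScalarTower A B Ω]
    [AddCommGroup M] [Module B M] [Module A M] [IsScalarTower A B M]
    {δ : Derivation A B Ω} {nabla : M →ₗ[A] M ⊗[B] Ω} (hc : Conn.IsConn δ nabla)
    (θ : Ω →ₗ[B] B) (b : B) (m : M) :
    Conn.along nabla θ (b • m) = b • Conn.along nabla θ m + θ (δ b) • m := by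
  rw [Conn.along_apply, hc b m, map_add, map_add, map_smul, map_smul, Conn.along_apply]
  simp

/-- The trace of a commutator `[D, φ]` with a first-order operator `D` is the derivative of the
trace. -/
theorem trace_comm {A : Type v} {B M : Type u} [CommRing A] [CommRing B] [Algebra A B]
    [AddCommGroup M] [Module B M] [Module A M] [IsScalarTower A B M]
    [Module.Finite B M] [Module.Free B M]
    (D : M →ₗ[A] M) (d : B →+ B) (hD : ∀ (b : B) (m : M), D (b • m) = b • D m + d b • m)
    (φ ψ : M →ₗ[B] M) (hψ : ∀ m, ψ m = D (φ m) - φ (D m)) :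
    LinearMap.trace B M ψ = d (LinearMap.trace B M φ) := by
  classical
  let b := Module.Free.chooseBasis B M
  rw [LinearMap.trace_eq_matrix_trace B b ψ, LinearMap.trace_eq_matrix_trace B b φ]
  set Φ := LinearMap.toMatrix b b φ with hΦ
  let Γ : Matrix _ _ B := fun i j => b.repr (D (b j)) i
  have key : LinearMap.toMatrix b b ψ = Γ * Φ - Φ * Γ + Φ.map d := by
    ext k j
    rw [LinearMap.toMatrix_apply, hψ]
    have h1 : φ (b j) = ∑ i, Φ i j • b i := by
      conv_lhs => rw [← b.sum_repr (φ (b j))]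
      simp [hΦ, LinearMap.toMatrix_apply]
    have h2 : D (b j) = ∑ i, Γ i j • b i := by
      conv_lhs => rw [← b.sum_repr (D (b j))]
    rw [h1, h2, map_sum, map_sum]
    simp only [hD, map_smul, map_sub, map_sum, map_add, Finsupp.coe_sub, Pi.sub_apply,
      Finsupp.coe_finsetSum, Finset.sum_apply, Finsupp.coe_add, Pi.add_apply, Finsupp.coe_smul,
      Pi.smul_apply, smul_eq_mul, Module.Basis.repr_self, Finsupp.single_apply,
      Matrix.add_apply, Matrix.sub_apply, Matrix.mul_apply, Matrix.map_apply]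
    have e1 : ∀ x, b.repr (D (b x)) k = Γ k x := fun _ => rfl
    have e2 : ∀ x, b.repr (φ (b x)) k = Φ k x := fun x => by rw [hΦ, LinearMap.toMatrix_apply]
    simp only [e1, e2, Finset.sum_add_distrib, mul_ite, mul_one, mul_zero, Finset.sum_ite_eq',
      Finset.mem_univ, if_true]
    have e3 : ∑ x, Φ x j * Γ k x = ∑ x, Γ k x * Φ x j :=
      Finset.sum_congr rfl fun x _ => mul_comm _ _
    have e4 : ∑ x, Γ x j * Φ k x = ∑ x, Φ k x * Γ x j :=
      Finset.sum_congr rfl fun x _ => mul_comm _ _
    rw [e3, e4]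
    abel
  rw [key, Matrix.trace_add, Matrix.trace_sub, Matrix.trace_mul_comm Γ Φ, sub_self, zero_add]
  simp [Matrix.trace, map_sum]

/-- A `B`-linear functional `f` on endomorphisms with `f [D_θ, φ] = θ (δ (g φ))` for all `θ`
gives `1 ⊗ δ (g φ) = (f ⊗ 1) (∇_E φ)`. -/
theorem triv_eq_of_along {A : Type v} {B Ω X : Type u} [CommRing A] [CommRing B] [Algebra A B]
    [AddCommGroup Ω] [Module B Ω] [Module A Ω] [IsScalarTower A B Ω] [Module.Free B Ω]
    [AddCommGroup X] [Module B X] [Module A X] [IsScalarTower A B X]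
    (δ : Derivation A B Ω) (nablaX : X →ₗ[A] X ⊗[B] Ω) (f : X →ₗ[B] B) (x : X)
    (h : ∀ θ : Ω →ₗ[B] B, f (Conn.along nablaX θ x) = θ (δ (f x))) :
    Conn.triv δ (f x) = TensorProduct.map f LinearMap.id (nablaX x) := by
  apply eq_of_contract_eq
  intro θ
  have h' := h θ
  rw [Conn.along_apply] at h'
  rw [rid_map, h', Conn.triv_apply]
  simp

end Groth.Agent.Lib.Helper24.ConnL
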