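import Mathlib.Topology.Spectral.ConstructibleTopology
import Mathlib.Topology.Spectral.Hom

set_option autoImplicit false

namespace Groth.Agent.Lib.Helper24

open TopologicalSpace Topology

variable {X : Type*} [TopologicalSpace X]

/-- Every open set of a prespectral space is open in the constructible topology. -/
theorem isOpen_constructible_of_isOpen [PrespectralSpace X] {U : Set X} (hU : IsOpen U) :
    IsOpen[constructibleTopology X] U := by
  obtain ⟨S, hS, rfl⟩ := (PrespectralSpace.isTopologicalBasis (X := X)).open_eq_sUnion hU
  apply @isOpen_sUnion _ (constructibleTopology X)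
  intro s hs
  exact (hS hs).2.isOpen_constructibleTopology_of_isOpen (hS hs).1

theorem isClosed_constructible_of_isClosed [PrespectralSpace X] {U : Set X} (hU : IsClosed U) :
    IsClosed[constructibleTopology X] U := by
  rw [← @isOpen_compl_iff _ _ (constructibleTopology X)]
  exact isOpen_constructible_of_isOpen hU.isOpen_compl

theorem constructibleTopology_le [PrespectralSpace X] :
    constructibleTopology X ≤ ‹TopologicalSpace X› :=
  fun _ hU => isOpen_constructible_of_isOpen hU

/-- compact open sets are clopen in the constructible topology -/
theorem isClosed_constructible_of_isCompact_isOpen {U : Set X} (hc : IsCompact U)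
    (ho : IsOpen U) : IsClosed[constructibleTopology X] U := by
  rw [← @isOpen_compl_iff _ _ (constructibleTopology X)]
  exact IsCompact.isOpen_constructibleTopology_of_isClosed (by rwa [compl_compl])
    ho.isClosed_compl

theorem compactSpace_constructible [CompactSpace X] [QuasiSober X]
    [PrespectralSpace X] [QuasiSeparatedSpace X] : @CompactSpace X (constructibleTopology X) :=
  @Function.Surjective.compactSpace (WithConstructibleTopology X) X _ (constructibleTopology X)
    _ (WithTopology.continuous_ofTopology _)
    (inferInstance : CompactSpace (WithConstructibleTopology X))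
    (WithTopology.ofTopology_surjective _)

theorem t2Space_constructible [T0Space X] [PrespectralSpace X] :
    @T2Space X (constructibleTopology X) := by
  refine @T2Space.mk X (constructibleTopology X) ?_
  intro x y hxy
  obtain ⟨U, hU, hUxy⟩ := exists_isOpen_xor_mem hxy
  rcases hUxy with ⟨hx, hy⟩ | ⟨hy, hx⟩
  · obtain ⟨V, ⟨hVo, hVc⟩, hxV, hVU⟩ :=
      (PrespectralSpace.isTopologicalBasis (X := X)).exists_subset_of_mem_open hx hU
    refine ⟨V, Vᶜ, hVc.isOpen_constructibleTopology_of_isOpen hVo, ?_, hxV,
      fun h => hy (hVU h), disjoint_compl_right⟩
    exact IsCompact.isOpen_constructibleTopology_of_isClosed (by rwa [compl_compl])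
      hVo.isClosed_compl
  · obtain ⟨V, ⟨hVo, hVc⟩, hyV, hVU⟩ :=
      (PrespectralSpace.isTopologicalBasis (X := X)).exists_subset_of_mem_open hy hU
    refine ⟨Vᶜ, V, ?_, hVc.isOpen_constructibleTopology_of_isOpen hVo,
      fun h => hx (hVU h), hyV, disjoint_compl_left⟩
    exact IsCompact.isOpen_constructibleTopology_of_isClosed (by rwa [compl_compl])
      hVo.isClosed_compl

/-- A constructibly closed subset of a spectral space is compact (for the original topology). -/
theorem isCompact_of_isClosed_constructible [CompactSpace X] [QuasiSober X]
    [PrespectralSpace X] [QuasiSeparatedSpace X] {E : Set X}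
    (hE : IsClosed[constructibleTopology X] E) : IsCompact E := by
  have h1 : @IsCompact X (constructibleTopology X) E :=
    @IsClosed.isCompact X (constructibleTopology X) E compactSpace_constructible hE
  have hc : @Continuous X X (constructibleTopology X) ‹TopologicalSpace X› id :=
    continuous_id_of_le constructibleTopology_le
  have := @IsCompact.image X X (constructibleTopology X) ‹TopologicalSpace X› E id h1 hc
  simpa using this

/-- A spectral map is continuous for the constructible topologies. -/
theorem continuous_constructible_of_isSpectralMap {Y : Type*} [TopologicalSpace Y]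
    {f : X → Y} (hf : IsSpectralMap f) :
    @Continuous X Y (constructibleTopology X) (constructibleTopology Y) f := by
  apply (continuous_generateFrom_iff (t := constructibleTopology X)).mpr
  rintro s (⟨hso, hsc⟩ | ⟨hscl, hsc⟩)
  · exact (hf.isCompact_preimage_of_isOpen hso hsc).isOpen_constructibleTopology_of_isOpen
      (hso.preimage hf.toContinuous)
  · refine IsCompact.isOpen_constructibleTopology_of_isClosed ?_ (hscl.preimage hf.toContinuous)
    rw [← Set.preimage_compl]
    exact hf.isCompact_preimage_of_isOpen hscl.isOpen_compl hsc

end Groth.Agent.Lib.Helper24
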