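import Groth.Prelude.Def_DeRham

/-! Helper lemmas for `DeRham`: additive induction principle on Kähler forms. -/

set_option autoImplicit false

namespace Groth.Agent.Lib.Helper24.DeRhamL

universe v u

open exteriorPower DeRham

variable {R : Type v} {A : Type u} [CommRing R] [CommRing A] [Algebra R A]

/-- Additive induction principle on `⋀[A]^p Ω[A⁄R]`: the elements `b₀ · db₁ ∧ … ∧ db_p` generate it
additively. -/
theorem kaehler_induction {p : ℕ} {P : ↥(⋀[A]^p (Ω[A⁄R])) → Prop}
    (hgen : ∀ (b₀ : A) (b : Fin p → A), P (gen (KaehlerDifferential.D R A) p b₀ b))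
    (h0 : P 0) (hadd : ∀ x y, P x → P y → P (x + y)) : ∀ x, P x := by
  intro x
  have hx : x ∈ Submodule.span A (ιMulti A p '' {a : Fin p → Ω[A⁄R] |
      Set.range a ⊆ Set.range (KaehlerDifferential.D R A)}) := by
    rw [ιMulti_span_of_span A p (Ω[A⁄R]) (KaehlerDifferential.span_range_derivation R A)]
    trivial
  have key : ∀ a : A, P (a • x) := by
    induction hx using Submodule.span_induction with
    | mem y hy =>
      obtain ⟨a', ha', rfl⟩ := hy
      have : ∀ i, ∃ b : A, KaehlerDifferential.D R A b = a' i := fun i => ha' ⟨i, rfl⟩
      choose b hb using this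
      intro a
      have : a' = fun i => KaehlerDifferential.D R A (b i) := funext fun i => (hb i).symm
      rw [this]
      exact hgen a b
    | zero =>
      intro a
      rw [smul_zero]
      exact h0
    | add y z _ _ hy hz =>
      intro a
      rw [smul_add]
      exact hadd _ _ (hy a) (hz a)
    | smul c y _ hy =>
      intro a
      rw [smul_smul]
      exact hy (a * c)
  have := key 1
  rwa [one_smul] at this

end Groth.Agent.Lib.Helper24.DeRhamL
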